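import Mathlib
import Cfsg.Agent.Lib.MultC.Upper
import Cfsg.Agent.Lib.Comput.Lin2
import Cfsg.Agent.Lib.Fischer.TC
import Cfsg.Agent.Lib.Coprime.Gaschutz

/-!
Extensions of a group `G` by a module `V` of exponent two: certified splitting (relators of a Sylow 2-subgroup with
fusion, evaluated symbolically), Baer difference, certified non-splitting.
A symbolic vector is a number `T` whose block `c` is the coefficient of the unknown bit `u c`.
-/

set_option autoImplicit false

namespace CfsgLib.MultC.ModExt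

open CfsgLib.Comput CfsgLib.MultC Finset Multiplicative

section val
variable {V : Type*} [AddCommGroup V]

/-- the value of a symbolic vector -/
def val (d w : ℕ) (e : ℕ → V) (u : ℕ → Bool) (T : ℕ) : V :=
  ∑ c ∈ range w, if u c then dec2 d e T c else 0

variable {d w : ℕ} {e : ℕ → V} {u : ℕ → Bool}

theorem val_xor (h2 : ∀ v : V, v + v = 0) (S T : ℕ) :
    val d w e u (S ^^^ T) = val d w e u S + val d w e u T := by
  rw [val, val, val, ← sum_add_distrib]
  refine sum_congr rfl fun c _ => ?_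
  split_ifs
  · exact dec2_xor h2 d e S T c
  · exact (add_zero _).symm

theorem val_zero : val d w e u 0 = 0 := by simp [val, dec2_zero]

theorem val_bxor (h2 : ∀ v : V, v + v = 0) (u u' : ℕ → Bool) (T : ℕ) :
    val d w e (fun c => xor (u c) (u' c)) T = val d w e u T + val d w e u' T := by
  rw [val, val, val, ← sum_add_distrib]
  refine sum_congr rfl fun c _ => ?_
  cases u c <;> cases u' c <;> simp [h2]

theorem val_smul {M : Type*} [Monoid M] [DistribMulAction M V] {S T : ℕ} {a : M}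
    (h : ∀ c < w, dec2 d e S c = a • dec2 d e T c) : val d w e u S = a • val d w e u T := by
  rw [val, val, smul_sum]
  refine sum_congr rfl fun c hc => ?_
  split_ifs
  · exact h c (mem_range.1 hc)
  · exact (smul_zero a).symm

theorem val_two_pow {j k : ℕ} (hj : j < w) (hk : k < d) :
    val d w e u (2 ^ (j * d + k)) = if u j then e k else 0 := by
  rw [val, sum_eq_single j]
  · congr 1
    rw [dec2, sum_eq_single k]
    · simp
    · intro i _ hi
      rw [if_neg]
      rw [Nat.testBit_two_pow, decide_eq_true_eq]; omega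
    · intro h; exact absurd (mem_range.2 hk) h
  · intro c _ hc
    have : dec2 d e (2 ^ (j * d + k)) c = 0 := sum_eq_zero fun i hi => by
      rw [if_neg]
      rw [Nat.testBit_two_pow, decide_eq_true_eq]
      intro h
      have h1 := congrArg (· / d) h
      have hi' := mem_range.1 hi
      simp only [Nat.mul_comm _ d, Nat.mul_add_div (by omega : d > 0), Nat.div_eq_of_lt hk,
        Nat.div_eq_of_lt hi'] at h1
      omega
    simp [this]
  · intro h; exact absurd (mem_range.2 hj) h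

/-- the symbolic vector number `r` (first `k` coordinates) -/
noncomputable def unitK (d r k : ℕ) : ℕ :=
  Nat.rec 0 (fun i ih => Nat.xor ih (Nat.shiftLeft 1 (Nat.add (Nat.mul (Nat.add (Nat.mul r d) i) d) i))) k

/-- the symbolic vector number `r` -/
noncomputable def unitS (d r : ℕ) : ℕ := unitK d r d

/-- the unknown vector number `r` -/
def vec (d : ℕ) (e : ℕ → V) (u : ℕ → Bool) (r : ℕ) : V := ∑ k ∈ range d, if u (r * d + k) then e k else 0

theorem val_unitS (h2 : ∀ v : V, v + v = 0) {r nr : ℕ} (hr : r < nr) :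
    val d (nr * d) e u (unitS d r) = vec d e u r := by
  have : ∀ k ≤ d, val d (nr * d) e u (unitK d r k) = ∑ i ∈ range k, if u (r * d + i) then e i else 0 := by
    intro k
    induction k with
    | zero => intro _; exact val_zero
    | succ k ih =>
      intro hk
      have e1 : unitK d r (k + 1) = unitK d r k ^^^ (1 <<< ((r * d + k) * d + k)) := rfl
      rw [e1, val_xor h2, ih (by omega), sum_range_succ, Nat.one_shiftLeft,
        val_two_pow (by nlinarith) (by omega)]
  exact this d le_rfl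

theorem exists_vec (span : ∀ v : V, ∃ x, v = dec2 d e x 0) (hd : 0 < d) (v : ℕ → V) :
    ∃ u : ℕ → Bool, ∀ r, vec d e u r = v r := by
  choose x hx using span
  refine ⟨fun c => (x (v (c / d))).testBit (c % d), fun r => ?_⟩
  rw [hx (v r), vec, dec2]
  refine sum_congr rfl fun k hk => ?_
  have hk' := mem_range.1 hk
  rw [Nat.mul_comm r, Nat.mul_add_div hd, Nat.mul_add_mod, Nat.div_eq_of_lt hk', Nat.mod_eq_of_lt hk']
  simp

/-- the symbolic vector `(∑ c ∈ l, u c) • e 0` -/
noncomputable def lamS (d : ℕ) (l : List ℕ) : ℕ :=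
  List.rec 0 (fun c _ ih => Nat.xor (Nat.shiftLeft 1 (Nat.mul c d)) ih) l

/-- the parity of the unknowns of the list -/
def lam (u : ℕ → Bool) (l : List ℕ) : Bool := l.foldr (fun c b => xor (u c) b) false

theorem lam_bxor (u u' : ℕ → Bool) (l : List ℕ) :
    lam (fun c => xor (u c) (u' c)) l = xor (lam u l) (lam u' l) := by
  induction l with
  | nil => rfl
  | cons c l ih =>
    simp only [lam, List.foldr_cons] at ih ⊢
    rw [ih]
    cases u c <;> cases u' c <;> simp

theorem val_lamS (h2 : ∀ v : V, v + v = 0) (hd : 0 < d) {l : List ℕ} (hl : ∀ c ∈ l, c < w) :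
    val d w e u (lamS d l) = if lam u l then e 0 else 0 := by
  induction l with
  | nil => exact val_zero
  | cons c l ih =>
    have e1 : lamS d (c :: l) = (1 <<< (c * d + 0)) ^^^ lamS d l := rfl
    have e2 : lam u (c :: l) = xor (u c) (lam u l) := rfl
    rw [e1, e2, val_xor h2, ih fun c hc => hl c (List.mem_cons_of_mem _ hc), Nat.one_shiftLeft,
      val_two_pow (hl c List.mem_cons_self) hd]
    cases u c <;> cases lam u l <;> simp [h2]

/-- the `k` columns of a packed matrix -/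
noncomputable def unp (d k : ℕ) : ℕ → List ℕ :=
  Nat.rec (motive := fun _ => ℕ → List ℕ) (fun _ => [])
    (fun _ ih x => Nat.mod x (Nat.pow 2 d) :: ih (Nat.shiftRight x d)) k

theorem unp_spec (d k x : ℕ) : (unp d k x).length = k ∧ ∀ c ∈ unp d k x, c < 2 ^ d := by
  induction k generalizing x with
  | zero => exact ⟨rfl, fun _ h => absurd h List.not_mem_nil⟩
  | succ k ih =>
    have e1 : unp d (k + 1) x = x % 2 ^ d :: unp d k (x >>> d) := rfl
    rw [e1]
    refine ⟨congrArg Nat.succ (ih _).1, fun c hc => ?_⟩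
    rcases List.mem_cons.1 hc with rfl | hc
    · exact Nat.mod_lt _ (by positivity)
    · exact (ih _).2 c hc

/-- `e 0, ..., e (d-1)` is a basis -/
structure Bas (d : ℕ) (e : ℕ → V) : Prop where
  h2 : ∀ v : V, v + v = 0
  pos : 0 < d
  span : ∀ v : V, ∃ x, v = dec2 d e x 0
  lift : ∀ y : ℕ → V, ∃ a : AddMonoid.End V, ∀ k < d, a (e k) = y k
  ne : e 0 ≠ 0

theorem Bas.of_dual [Module (ZMod 2) V] (hd : 0 < d) (span : ∀ v : V, ∃ x, v = dec2 d e x 0)
    (f : ℕ → V →+ ZMod 2) (hf : ∀ k < d, ∀ j < d, f k (e j) = if k = j then 1 else 0) : Bas d e := by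
  refine ⟨fun v => ?_, hd, span, fun y => ⟨∑ k ∈ range d, ((smulAddHom (ZMod 2) V).flip (y k)).comp (f k),
    fun j hj => ?_⟩, fun h => ?_⟩
  · rw [← two_smul (ZMod 2) v, show (2 : ZMod 2) = 0 from rfl, zero_smul]
  · have : ∀ k ∈ range d, (((smulAddHom (ZMod 2) V).flip (y k)).comp (f k)) (e j) = if k = j then y k else 0 := by
      intro k hk
      change f k (e j) • y k = _
      rw [hf k (mem_range.1 hk) j hj]
      split_ifs <;> simp
    refine (AddMonoidHom.finsetSum_apply _ _ _).trans ?_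
    rw [sum_congr rfl this, sum_ite_eq', if_pos (mem_range.2 hj)]
  · have := hf 0 hd 0 hd
    rw [h, map_zero, if_pos rfl] at this
    exact zero_ne_one this

theorem Bas.exists_act (B : Bas d e) (A : ℕ) : ∃ a : AddMonoid.End V, Act2 d e (unp d d A) a :=
  let ⟨a, ha⟩ := B.lift fun k => dec2 d e ((unp d d A).getD k 0) 0
  ⟨a, (unp_spec d d A).1, (unp_spec d d A).2, ha⟩

/-- a combination of symbolic vectors with matrix coefficients -/
noncomputable def comb (d R : ℕ) (Ts : List ℕ) (l : List (ℕ × ℕ)) : ℕ :=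
  List.rec 0 (fun c _ ih => Nat.xor (force (nth 0 Ts c.1) (app2 R (unp d d c.2))) ih) l

theorem Bas.val_comb (B : Bas d e) {Ts : List ℕ} (h : ∀ T ∈ Ts, val d w e u T = 0) (l : List (ℕ × ℕ)) :
    val d w e u (comb d (ones d w) Ts l) = 0 := by
  induction l with
  | nil => exact val_zero
  | cons c l ih =>
    have e1 : comb d (ones d w) Ts (c :: l) = force (nth 0 Ts c.1) (app2 (ones d w) (unp d d c.2)) ^^^
      comb d (ones d w) Ts l := rfl
    obtain ⟨a, ha⟩ := B.exists_act c.2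
    rw [e1, force_eq, val_xor B.h2, ih, val_smul fun c hc => dec2_app2 B.h2 B.pos ha _ hc, add_zero]
    rcases nth_mem_or 0 Ts c.1 with h1 | h1
    · rw [h _ h1, smul_zero]
    · rw [h1, val_zero, smul_zero]

end val

/-- the number of letters of a packed word -/
noncomputable def lenW (x : ℕ) : ℕ := Nat.div (Nat.add (Nat.log2 (Nat.succ (Nat.mul 2 x))) 7) 8

theorem lt_lenW (x : ℕ) : x < 256 ^ lenW x := by
  have h1 : 2 * x + 1 < 2 ^ ((2 * x + 1).log2 + 1) := Nat.lt_log2_self
  have h2 : 2 ^ (2 * x + 1).log2 ≤ 256 ^ lenW x := by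
    rw [show 256 = 2 ^ 8 from rfl, ← pow_mul]
    refine Nat.pow_le_pow_right (by norm_num) ?_
    change _ ≤ 8 * (((2 * x + 1).log2 + 7) / 8)
    omega
  rw [pow_succ] at h1
  omega

theorem ev_split {G : Type*} [Group G] (g : ℕ → G) (w n : ℕ) :
    ev g w = ev g (w / 256 ^ n) * ev g (w % 256 ^ n) := by
  rw [← Fischer.ev_concat g _ n _ (Nat.mod_lt _ (by positivity)), Nat.div_add_mod']

/-- run a sequence of rewriting steps from `w`; the result is `0` unless the end is `w0` -/
noncomputable def runL (d nr : ℕ) (stp : ℕ → ℕ → ℕ) (RL : List (ℕ × ℕ)) (w0 : ℕ) (l : List ℕ) : ℕ → ℕ → ℕ :=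
  List.rec (motive := fun _ => ℕ → ℕ → ℕ) (fun w T => Bool.rec 0 T (Nat.beq w w0))
    (fun s _ ih w T =>
      force (Nat.pow 256 (Nat.mod s 64)) fun p => force (Nat.div s 128) fun r =>
      force (Bool.rec (nth (0, 0) RL r).1 (nth (0, 0) RL r).2 (tb s 6)) fun L =>
      force (Bool.rec (nth (0, 0) RL r).2 (nth (0, 0) RL r).1 (tb s 6)) fun R =>
      force (Nat.div (Nat.div w p) (Nat.pow 256 (lenW L))) fun A =>
      Bool.rec 0 (force (Nat.add (Nat.mul (Nat.add (Nat.mul A (Nat.pow 256 (lenW R))) R) p) (Nat.mod w p)) fun w' =>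
          force (Nat.xor T (act stp A (unitS d r))) (ih w'))
        (band (Nat.blt r nr) (Nat.beq (Nat.mod (Nat.div w p) (Nat.pow 256 (lenW L))) L))) l

/-- evaluate all loops, then continue -/
noncomputable def withLoops (d nr : ℕ) (stp : ℕ → ℕ → ℕ) (RL : List (ℕ × ℕ)) (l : List (ℕ × List ℕ)) :
    (List ℕ → Bool) → Bool :=
  List.rec (motive := fun _ => (List ℕ → Bool) → Bool) (fun k => k [])
    (fun c _ ih k => force (runL d nr stp RL c.1 c.2 c.1 0) fun T => ih fun Ts => k (T :: Ts)) l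

theorem withLoops_sound {d nr : ℕ} {stp : ℕ → ℕ → ℕ} {RL : List (ℕ × ℕ)} {P : ℕ → Prop}
    (hP : ∀ w0 l, P (runL d nr stp RL w0 l w0 0)) {l : List (ℕ × List ℕ)} {k : List ℕ → Bool}
    (h : withLoops d nr stp RL l k = true) : ∃ Ts, (∀ T ∈ Ts, P T) ∧ k Ts = true := by
  induction l generalizing k with
  | nil => exact ⟨[], fun _ h => absurd h List.not_mem_nil, h⟩
  | cons c l ih =>
    have e1 : withLoops d nr stp RL (c :: l) k = force (runL d nr stp RL c.1 c.2 c.1 0)
      fun T => withLoops d nr stp RL l fun Ts => k (T :: Ts) := rfl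
    rw [e1, force_eq] at h
    obtain ⟨Ts, h1, h2⟩ := ih h
    exact ⟨_ :: Ts, List.forall_mem_cons.2 ⟨hP _ _, h1⟩, h2⟩

/-- the correction of a word when the letters are corrected by `C` -/
noncomputable def fox (stp : ℕ → ℕ → ℕ) (C : ℕ → ℕ) (w : ℕ) : ℕ :=
  act (fun m T => Nat.xor (C m) (stp m T)) w 0

/-- rule `r` holds for the corrected letters -/
noncomputable def corrOK (d nr : ℕ) (stp : ℕ → ℕ → ℕ) (RL : List (ℕ × ℕ)) (C : List ℕ)
    (A : List (List (ℕ × ℕ))) (Ts : List ℕ) (r : ℕ) : Bool :=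
  Nat.beq (Nat.xor (unitS d r) (Nat.xor (fox stp (nth 0 C) (nth (0, 0) RL r).1) (fox stp (nth 0 C) (nth (0, 0) RL r).2)))
    (comb d (ones d (Nat.mul nr d)) Ts (nth [] A r))

/-- the shape of the rule `(j, i)` of a power-commutator presentation -/
noncomputable def shapeOK (n : ℕ) (RL : List (ℕ × ℕ)) (j i : ℕ) : Bool :=
  band (Nat.beq (nth (0, 0) RL (ridx j i)).1 (Nat.add (Nat.mul (Nat.succ j) 256) (Nat.succ i)))
    (force (Nat.sub (Nat.pow 2 n) (Nat.pow 2 (Nat.succ i))) fun M => force (nth (0, 0) RL (ridx j i)).2 fun R =>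
      Bool.rec (inA M R) (band (Nat.beq (Nat.div R (Nat.pow 256 (Nat.pred (lenW R)))) (Nat.succ i))
        (inA M (Nat.mod R (Nat.pow 256 (Nat.pred (lenW R)))))) (Nat.blt i j))

variable {E G V : Type*} [Group E] [Group G] [AddCommGroup V] [DistribMulAction G V]

/-- `E` is an extension of `G` by the module `V` -/
structure MExt (ι : Multiplicative V →* E) (π : E →* G) : Prop where
  surj : Function.Surjective π
  inj : Function.Injective ι
  ker : ∀ a, π a = 1 ↔ ∃ v, ι (ofAdd v) = a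
  conj : ∀ a v, a * ι (ofAdd v) = ι (ofAdd (π a • v)) * a

/-- the values of the rules -/
def Tails (ι : Multiplicative V →* E) (x : ℕ → E) (d nr : ℕ) (e : ℕ → V) (RL : List (ℕ × ℕ)) (u : ℕ → Bool) :
    Prop :=
  ∀ r < nr, ev x (nth (0, 0) RL r).1 = ι (ofAdd (vec d e u r)) * ev x (nth (0, 0) RL r).2

variable {ι : Multiplicative V →* E} {π : E →* G} {d nr : ℕ} {e : ℕ → V} {RL : List (ℕ × ℕ)} {u : ℕ → Bool}
  {x : ℕ → E} {g : ℕ → G} {ML : List (List ℕ)}

theorem MExt.exists_tails (X : MExt ι π) (B : Bas d e) (hx : ∀ m, π (x m) = g m)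
    (h : ∀ r < nr, ev g (nth (0, 0) RL r).1 = ev g (nth (0, 0) RL r).2) : ∃ u, Tails ι x d nr e RL u := by
  have : ∀ r, ∃ v, r < nr → ev x (nth (0, 0) RL r).1 = ι (ofAdd v) * ev x (nth (0, 0) RL r).2 := fun r => by
    by_cases hr : r < nr
    · obtain ⟨v, hv⟩ := (X.ker (ev x (nth (0, 0) RL r).1 * (ev x (nth (0, 0) RL r).2)⁻¹)).1 (by
        rw [map_mul, map_inv, map_ev, map_ev, funext hx, h r hr, mul_inv_cancel])
      exact ⟨v, fun _ => by rw [hv, inv_mul_cancel_right]⟩
    · exact ⟨0, fun h => absurd h hr⟩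
  choose v hv using this
  obtain ⟨u, hu⟩ := exists_vec B.span B.pos v
  exact ⟨u, fun r hr => by rw [hu]; exact hv r hr⟩

theorem val_act (B : Bas d e) (hL : ActL (Act2 d e) ML g) (w a T : ℕ) :
    val d w e u (act (stepL (app2 (ones d w)) ML) a T) = ev g a • val d w e u T :=
  val_smul ((lin2 G B.h2 B.pos e w).st_act hL (y := T) trivial a).2

theorem ι_sq (B : Bas d e) (ι : Multiplicative V →* E) (v : V) : ι (ofAdd v) * ι (ofAdd v) = 1 := by
  rw [← map_mul, ← ofAdd_add, B.h2, ofAdd_zero, map_one]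

theorem MExt.val_runL (X : MExt ι π) (B : Bas d e) (hL : ActL (Act2 d e) ML g) (hx : ∀ m, π (x m) = g m)
    (hu : Tails ι x d nr e RL u) (w0 : ℕ) (l : List ℕ) (w T : ℕ)
    (h : ev x w0 = ι (ofAdd (val d (nr * d) e u T)) * ev x w) :
    val d (nr * d) e u (runL d nr (stepL (app2 (ones d (nr * d))) ML) RL w0 l w T) = 0 := by
  induction l generalizing w T with
  | nil =>
    change val d (nr * d) e u (Bool.rec 0 T (Nat.beq w w0)) = 0
    rcases hb : Nat.beq w w0 with _ | _
    · exact val_zero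
    · rw [Nat.eq_of_beq_eq_true hb, right_eq_mul, ← map_one ι] at h
      exact X.inj h
  | cons s l ih =>
    unfold runL at ih ⊢
    simp only [force_eq]
    simp only [force_eq] at ih
    generalize hp : Nat.mod s 64 = p
    generalize hr : Nat.div s 128 = r
    generalize hL' : (Bool.rec (nth (0, 0) RL r).1 (nth (0, 0) RL r).2 (tb s 6) : ℕ) = L
    generalize hR' : (Bool.rec (nth (0, 0) RL r).2 (nth (0, 0) RL r).1 (tb s 6) : ℕ) = R
    rcases hb : band (Nat.blt r nr) (Nat.beq (Nat.mod (Nat.div w (Nat.pow 256 p)) (Nat.pow 256 (lenW L))) L)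
      with _ | _
    · exact val_zero
    obtain ⟨h1, h3⟩ := band_eq_true.1 hb
    have h1' : r < nr := Nat.blt_eq.mp h1
    have h4 : w / 256 ^ p % 256 ^ lenW L = L := Nat.eq_of_beq_eq_true h3
    have h5 : ev x L = ι (ofAdd (vec d e u r)) * ev x R := by
      rw [← hL', ← hR']
      cases tb s 6
      · exact hu r h1'
      · change ev x (nth (0, 0) RL r).2 = ι (ofAdd (vec d e u r)) * ev x (nth (0, 0) RL r).1
        rw [hu r h1', ← mul_assoc, ι_sq B, one_mul]
    refine ih _ _ ?_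
    change ev x w0 = ι (ofAdd (val d (nr * d) e u (T ^^^ act (stepL (app2 (ones d (nr * d))) ML)
      (w / 256 ^ p / 256 ^ lenW L) (unitS d r)))) *
      ev x ((w / 256 ^ p / 256 ^ lenW L * 256 ^ lenW R + R) * 256 ^ p + w % 256 ^ p)
    rw [val_xor B.h2, val_act B hL, val_unitS B.h2 h1', Fischer.ev_concat _ _ _ _ (Nat.mod_lt _ (by positivity)),
      Fischer.ev_concat _ _ _ _ (lt_lenW R), ofAdd_add, map_mul, ← funext hx, ← map_ev, h, ev_split x w p,
      ev_split x (w / 256 ^ p) (lenW L), h4, h5, ← mul_assoc (ev x _) (ι _), X.conj]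
    simp only [mul_assoc]

theorem MExt.ev_fox (X : MExt ι π) (B : Bas d e) (hL : ActL (Act2 d e) ML g) (hx : ∀ m, π (x m) = g m)
    (w : ℕ) (C : ℕ → ℕ) (a : ℕ) :
    ev (fun m => ι (ofAdd (val d w e u (C m))) * x m) a =
      ι (ofAdd (val d w e u (fox (stepL (app2 (ones d w)) ML) C a))) * ev x a := by
  have := act_rel (g := fun m => (ι (ofAdd (val d w e u (C m))) * x m, x m))
    (step := fun m T => Nat.xor (C m) (stepL (app2 (ones d w)) ML m T))
    (St := fun T (y : E × E) => y.1 = ι (ofAdd (val d w e u T)) * y.2) (fun m T y h => by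
      have h1 : val d w e u (stepL (app2 (ones d w)) ML m T) = (g m * 1) • val d w e u T :=
        val_smul (VMod.St.step (Q := lin2 G B.h2 B.pos e w) hL T m T 1 (VMod.St.one _ trivial)).2
      change ι _ * x m * y.1 = ι (ofAdd (val d w e u (C m ^^^ stepL (app2 (ones d w)) ML m T))) * (x m * y.2)
      rw [val_xor B.h2, h, ofAdd_add, map_mul, mul_assoc, ← mul_assoc (x m), X.conj, hx, h1]
      simp only [mul_assoc, mul_one]) a (x := 0) (a := 1) (by rw [val_zero]; simp)
  rw [mul_one] at this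
  exact (map_ev (MonoidHom.fst E E) _ a).symm.trans
    (this.trans (congrArg _ (map_ev (MonoidHom.snd E E) _ a)))

/-- the certified splitting theorem -/
theorem MExt.split [Finite E] (X : MExt ι π) (B : Bas d e) (hL : ActL (Act2 d e) ML g) (hx : ∀ m, π (x m) = g m)
    (hu : Tails ι x d nr e RL u) {n : ℕ} (hn : n < 255) (hnr : ridx n 0 ≤ nr)
    (hcard : 2 ^ n ≤ Nat.card (Subgroup.closure {a | ∃ j < n, g j = a})) (hidx : ¬ 2 ^ (n + 1) ∣ Nat.card G)
    (hs : allLt (fun j => allLt (shapeOK n RL j) (Nat.succ j)) n = true)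
    {Lc : List ℕ} (hLc : ∀ c ∈ Lc, c < nr * d) (hlam : lam u Lc = false) {loops : List (ℕ × List ℕ)} {C : List ℕ}
    {A : List (List (ℕ × ℕ))}
    (h : withLoops d nr (stepL (app2 (ones d (nr * d))) ML) RL loops (fun Ts => allLt
      (corrOK d nr (stepL (app2 (ones d (nr * d))) ML) RL C A (lamS d Lc :: Ts)) (ridx n 0)) = true) :
    ∃ H : Subgroup E, π.ker.IsComplement' H := by
  obtain ⟨Ts, h1, h2⟩ := withLoops_sound (P := fun T => val d (nr * d) e u T = 0)
    (fun w0 l => X.val_runL B hL hx hu w0 l w0 0 (by rw [val_zero]; simp)) h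
  have h3 : ∀ T ∈ lamS d Lc :: Ts, val d (nr * d) e u T = 0 :=
    List.forall_mem_cons.2 ⟨by rw [val_lamS B.h2 B.pos hLc, hlam]; rfl, h1⟩
  let x' : ℕ → E := fun m => ι (ofAdd (val d (nr * d) e u (nth 0 C m))) * x m
  have h4 : ∀ r < ridx n 0, ev x' (nth (0, 0) RL r).1 = ev x' (nth (0, 0) RL r).2 := fun r hr => by
    have a0 : unitS d r ^^^ (fox (stepL (app2 (ones d (nr * d))) ML) (nth 0 C) (nth (0, 0) RL r).1 ^^^
        fox (stepL (app2 (ones d (nr * d))) ML) (nth 0 C) (nth (0, 0) RL r).2) =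
        comb d (ones d (nr * d)) (lamS d Lc :: Ts) (nth [] A r) := Nat.eq_of_beq_eq_true (allLt_sound h2 r hr)
    have a1 := congrArg (val d (nr * d) e u) a0
    rw [B.val_comb h3, val_xor B.h2, val_xor B.h2, val_unitS B.h2 (hr.trans_le hnr)] at a1
    rw [X.ev_fox B hL hx, X.ev_fox B hL hx, hu r (hr.trans_le hnr), ← mul_assoc, ← map_mul, ← ofAdd_add]
    congr 3
    rw [← add_assoc, add_comm (vec d e u r)] at a1
    rw [← add_zero (_ + _), ← B.h2, ← add_assoc, a1, zero_add]
  have hin : ∀ i < n, InA x' (2 ^ n - 2 ^ (i + 1)) (tailGp ⊥ x' n (i + 1)) := fun i hi m hm => by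
    have a1 : 2 ^ n - 2 ^ (i + 1) = (2 ^ (n - (i + 1)) - 1) <<< (i + 1) := by
      rw [Nat.shiftLeft_eq, Nat.sub_mul, ← pow_add, Nat.sub_add_cancel hi, one_mul]
    rw [a1, Nat.testBit_shiftLeft, Nat.testBit_two_pow_sub_one, Bool.and_eq_true, decide_eq_true_eq,
      decide_eq_true_eq] at hm
    exact mem_tailGp hm.1 (by omega)
  have h5 : ∀ j < n, ∀ i ≤ j, x' j * x' i = ev x' (nth (0, 0) RL (ridx j i)).2 ∧
      (Bool.rec (inA (2 ^ n - 2 ^ (i + 1)) (nth (0, 0) RL (ridx j i)).2)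
        (band (Nat.beq ((nth (0, 0) RL (ridx j i)).2 / 256 ^ (lenW (nth (0, 0) RL (ridx j i)).2).pred) (i + 1))
        (inA (2 ^ n - 2 ^ (i + 1)) ((nth (0, 0) RL (ridx j i)).2 % 256 ^ (lenW (nth (0, 0) RL (ridx j i)).2).pred)))
        (Nat.blt i j) : Bool) = true := fun j hj i hi => by
    obtain ⟨a1, a2⟩ := band_eq_true.1 (allLt_sound (allLt_sound hs j hj) i (Nat.lt_succ_of_le hi))
    rw [force_eq, force_eq] at a2
    refine ⟨?_, a2⟩
    have a3 : (nth (0, 0) RL (ridx j i)).1 = (j + 1) * 256 ^ 1 + (i + 1) := Nat.eq_of_beq_eq_true a1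
    rw [← h4 _ (ridx_lt hj hi), a3, Fischer.ev_concat _ _ _ _ (by omega), ev_letter _ (by omega),
      ev_letter _ (by omega)]
  have hcl := card_tailGp_le (W := ⊥) (x := x') (n := n) (p := 2) (by norm_num) bot_le (fun j hj i hi => by
    obtain ⟨a1, a2⟩ := h5 j hj i hi.le
    rw [Nat.blt_eq.mpr hi] at a2
    obtain ⟨a3, a4⟩ := band_eq_true.1 a2
    rw [mul_assoc, a1, ev_split x' _ (lenW (nth (0, 0) RL (ridx j i)).2).pred, Nat.eq_of_beq_eq_true a3,
      ev_letter _ (by omega), inv_mul_cancel_left]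
    exact ev_mem (hin i (by omega)) a4) (fun i hi => by
    obtain ⟨a1, a2⟩ := h5 i hi i le_rfl
    rw [show Nat.blt i i = false by rw [← Bool.not_eq_true, Nat.blt_eq]; exact lt_irrefl i] at a2
    rw [pow_two, a1]
    exact ev_mem (hin i hi) a2)
  rw [Subgroup.card_bot, mul_one] at hcl
  set L := tailGp ⊥ x' n 0
  set P := Subgroup.closure {a | ∃ j < n, g j = a}
  have hπ : ∀ j, π (x' j) = g j := fun j => by
    rw [map_mul, (X.ker _).2 ⟨_, rfl⟩, one_mul, hx]
  have hmap : L.map π = P := by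
    apply le_antisymm
    · rw [Subgroup.map_le_iff_le_comap]
      refine sup_le bot_le ((Subgroup.closure_le _).mpr ?_)
      rintro _ ⟨j, -, hj, rfl⟩
      change π (x' j) ∈ P
      rw [hπ]; exact Subgroup.subset_closure ⟨j, hj, rfl⟩
    · refine (Subgroup.closure_le _).mpr ?_
      rintro _ ⟨j, hj, rfl⟩
      exact ⟨x' j, mem_tailGp (Nat.zero_le _) hj, hπ j⟩
  have c1 : Nat.card (π.ker.subgroupOf L) * Nat.card P = Nat.card L := by
    rw [← hmap, ← Subgroup.relIndex_ker, Subgroup.relIndex, Subgroup.card_mul_index]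
  have hG : Finite G := Finite.of_surjective π X.surj
  have c2 : Nat.card (π.ker.subgroupOf L) = 1 := by
    have a1 : 0 < Nat.card (π.ker.subgroupOf L) := Nat.card_pos
    have a2 : 0 < Nat.card P := Nat.card_pos
    nlinarith
  have c3 : Nat.card P = 2 ^ n := by rw [c2, one_mul] at c1; omega
  have : IsMulCommutative π.ker := ⟨⟨fun a b => by
    obtain ⟨v, hv⟩ := (X.ker _).1 a.2
    obtain ⟨v', hv'⟩ := (X.ker _).1 b.2
    apply Subtype.ext
    change a.1 * b.1 = b.1 * a.1
    rw [← hv, ← hv', ← map_mul ι, ← map_mul ι, mul_comm (ofAdd v)]⟩⟩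
  have c4 : IsPGroup 2 π.ker := fun a => ⟨1, by
    obtain ⟨v, hv⟩ := (X.ker _).1 a.2
    apply Subtype.ext
    change a.1 ^ 2 ^ 1 = 1
    rw [← hv, pow_one, pow_two, ι_sq B]⟩
  obtain ⟨k, hk⟩ := IsPGroup.iff_card.1 c4
  refine Coprime.gaschutz_exists (U := P.comap π) (A := L) ?_ ?_ ?_
  · rw [hk, Subgroup.index_comap_of_surjective _ X.surj]
    refine Nat.Coprime.pow_left _ ((Nat.Prime.coprime_iff_not_dvd Nat.prime_two).2 fun hd => hidx ?_)
    rw [← P.card_mul_index, c3, pow_succ]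
    exact Nat.mul_dvd_mul_left _ hd
  · rw [inf_comm]
    exact disjoint_iff.1 (Subgroup.subgroupOf_eq_bot.1 (Subgroup.card_eq_one.1 c2))
  · rw [← hmap, Subgroup.comap_map_eq, sup_comm]

/-- the certified non-splitting theorem: the values `y r` of the rules are not a coboundary -/
theorem MExt.not_split (X : MExt ι π) (B : Bas d e) (hL : ActL (Act2 d e) ML g) (hx : ∀ m, π (x m) = g m)
    {nl : ℕ} (hnl : ∀ m, nl ≤ m → x m = 1) {l : List (ℕ × ℕ × ℕ × ℕ)}
    (hl : ∀ c ∈ l, ev x c.1 = ι (ofAdd (dec2 d e c.2.2.1 0)) * ev x c.2.1)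
    (h0 : Nat.beq (List.rec 0 (fun c _ ih => Nat.xor (force (Nat.xor
        (fox (stepL (app2 (ones d (nl * d))) ML) (unitS d) c.1)
        (fox (stepL (app2 (ones d (nl * d))) ML) (unitS d) c.2.1)) (app2 (ones d (nl * d)) (unp d d c.2.2.2))) ih) l)
      0 = true)
    (h1 : Nat.beq (List.rec 0 (fun c _ ih => Nat.xor (app2 (ones d 1) (unp d d c.2.2.2) c.2.2.1) ih) l) 1 = true)
    (H : Subgroup E) (hH : H ⊓ π.ker = ⊥) : H ⊔ π.ker ≠ ⊤ := by
  intro hT
  have : ∀ m, ∃ v, ι (ofAdd v) * x m ∈ H := fun m => by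
    have h : x m ∈ ((π.ker ⊔ H : Subgroup E) : Set E) := by rw [sup_comm, hT]; trivial
    rw [Subgroup.normal_mul] at h
    obtain ⟨a, ha, b, hb, hab⟩ := h
    obtain ⟨v, rfl⟩ := (X.ker _).1 ha
    exact ⟨v, by rw [← hab, ← mul_assoc, ι_sq B, one_mul]; exact hb⟩
  choose v hv using this
  obtain ⟨u, hu⟩ := exists_vec B.span B.pos v
  have hz : ∀ m, nl ≤ m → val d (nl * d) e u (unitS d m) = 0 := fun m hm => by
    have : ∀ k, val d (nl * d) e u (unitK d m k) = 0 := fun k => by
      induction k with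
      | zero => exact val_zero
      | succ k ih =>
        have e1 : unitK d m (k + 1) = unitK d m k ^^^ (1 <<< ((m * d + k) * d + k)) := rfl
        rw [e1, val_xor B.h2, ih, zero_add, Nat.one_shiftLeft]
        refine sum_eq_zero fun c hc => ?_
        have : dec2 d e (2 ^ ((m * d + k) * d + k)) c = 0 := sum_eq_zero fun i hi => by
          rw [if_neg]
          rw [Nat.testBit_two_pow, decide_eq_true_eq]
          have a1 := mem_range.1 hi
          have a2 := mem_range.1 hc
          have a3 : (c + 1) * d ≤ (m * d + k) * d := Nat.mul_le_mul_right _ (by nlinarith)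
          rw [Nat.succ_mul] at a3
          omega
        simp [this]
    exact this d
  have hm : ∀ m, ι (ofAdd (val d (nl * d) e u (unitS d m))) * x m ∈ H := fun m => by
    by_cases h : m < nl
    · rw [val_unitS B.h2 h, hu]; exact hv m
    · rw [hz m (by omega), hnl m (by omega)]; simp
  have key : ∀ c ∈ l, val d (nl * d) e u (fox (stepL (app2 (ones d (nl * d))) ML) (unitS d) c.1 ^^^
      fox (stepL (app2 (ones d (nl * d))) ML) (unitS d) c.2.1) = dec2 d e c.2.2.1 0 := fun c hc => by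
    have a1 := ev_mem_of_all hm c.1
    have a2 := ev_mem_of_all hm c.2.1
    rw [X.ev_fox B hL hx] at a1 a2
    have a3 := H.mul_mem a1 (H.inv_mem a2)
    rw [hl c hc, mul_inv_rev, ← mul_assoc, ← mul_assoc, mul_inv_cancel_right, ← map_inv, ← map_mul,
      ← map_mul] at a3
    have a4 := Subgroup.mem_bot.1 (hH.le ⟨a3, (X.ker _).2 ⟨_, rfl⟩⟩)
    rw [← map_one ι] at a4
    have a5 : _ + _ + -_ = (0 : V) := congrArg toAdd (X.inj a4)
    simp only [toAdd_ofAdd] at a5
    rw [add_neg_eq_zero] at a5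
    rw [val_xor B.h2, ← a5, ← add_assoc, B.h2, zero_add]
  have fin : val d (nl * d) e u (List.rec 0 (fun c _ ih => Nat.xor (force (Nat.xor
        (fox (stepL (app2 (ones d (nl * d))) ML) (unitS d) c.1)
        (fox (stepL (app2 (ones d (nl * d))) ML) (unitS d) c.2.1)) (app2 (ones d (nl * d)) (unp d d c.2.2.2))) ih) l) =
      dec2 d e (List.rec 0 (fun c _ ih => Nat.xor (app2 (ones d 1) (unp d d c.2.2.2) c.2.2.1) ih) l) 0 := by
    clear h0 h1 hl
    induction l with
    | nil => exact val_zero.trans (dec2_zero _ _ _).symm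
    | cons c l ih =>
      obtain ⟨a, ha⟩ := B.exists_act c.2.2.2
      refine (val_xor B.h2 _ _).trans (Eq.trans ?_ (dec2_xor B.h2 _ _ _ _ _).symm)
      rw [ih fun c hc => key c (List.mem_cons_of_mem _ hc), force_eq,
        val_smul fun c hc => dec2_app2 B.h2 B.pos ha _ hc, dec2_app2 B.h2 B.pos ha _ Nat.one_pos]
      exact congrArg (a • · + _) (key c List.mem_cons_self)
  rw [Nat.eq_of_beq_eq_true h0, Nat.eq_of_beq_eq_true h1, val_zero, show 1 = 2 ^ 0 from rfl,
    dec2_two_pow e B.pos] at fin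
  exact B.ne fin.symm

section baer
open CfsgLib.Schur
variable {E' : Type*} [Group E'] {ι' : Multiplicative V →* E'} {π' : E' →* G}

/-- the diagonal copy of `V` in the pull-back -/
def MExt.diag (X : MExt ι π) (X' : MExt ι' π') : Multiplicative V →* pullback π π' :=
  (ι.prod ι').codRestrict _ fun v => ((X.ker _).2 ⟨toAdd v, rfl⟩).trans ((X'.ker _).2 ⟨toAdd v, rfl⟩).symm

theorem MExt.normal_diag (X : MExt ι π) (X' : MExt ι' π') : (X.diag X').range.Normal := ⟨by
  rintro _ ⟨v, rfl⟩ a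
  refine ⟨ofAdd (π a.1.1 • toAdd v), Subtype.ext (Prod.ext ?_ ?_)⟩
  · exact eq_mul_inv_of_mul_eq (X.conj a.1.1 (toAdd v)).symm
  · have h : π a.1.1 = π' a.1.2 := a.2
    rw [h]
    exact eq_mul_inv_of_mul_eq (X'.conj a.1.2 (toAdd v)).symm⟩

theorem bij_of_compl {D : Type*} [Group D] (X : MExt ι π) {f : D →* E} (hf : Function.Surjective f)
    {δ : Multiplicative V →* D} (hδ : ∀ v, f (δ v) = ι v) {H : Subgroup D} (h1 : ∀ v, δ v ∈ H)
    (h2 : ∀ a ∈ H, f a = 1 → a = 1) (h3 : ∀ a, ∃ b ∈ H, π (f b) = π (f a)) :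
    Function.Bijective (f.comp H.subtype) := by
  refine ⟨(injective_iff_map_eq_one _).2 fun a ha => Subtype.ext (h2 _ a.2 ha), fun y => ?_⟩
  obtain ⟨a, rfl⟩ := hf y
  obtain ⟨b, hb, hab⟩ := h3 a
  obtain ⟨v, hv⟩ := (X.ker (f a * (f b)⁻¹)).1 (by rw [map_mul, map_inv, hab, mul_inv_cancel])
  refine ⟨⟨δ (ofAdd v) * b, H.mul_mem (h1 _) hb⟩, ?_⟩
  change f (δ (ofAdd v) * b) = f a
  rw [map_mul, hδ, hv, inv_mul_cancel_right]

/-- the Baer difference: if it splits whenever the values of the rules add up, the groups are isomorphic -/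
theorem MExt.baer [Finite E] [Finite E'] (X : MExt ι π) (X' : MExt ι' π') (B : Bas d e) {x' : ℕ → E'}
    (hx : ∀ m, π (x m) = g m) (hx' : ∀ m, π' (x' m) = g m) {u' : ℕ → Bool}
    (hu : Tails ι x d nr e RL u) (hu' : Tails ι' x' d nr e RL u')
    (h : ∀ (N : Subgroup (pullback π π')) [N.Normal] (ι'' : Multiplicative V →* pullback π π' ⧸ N)
      (π'' : pullback π π' ⧸ N →* G) (x'' : ℕ → pullback π π' ⧸ N), MExt ι'' π'' → (∀ m, π'' (x'' m) = g m) →
      Tails ι'' x'' d nr e RL (fun c => xor (u c) (u' c)) → ∃ H : Subgroup (pullback π π' ⧸ N),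
        π''.ker.IsComplement' H) : Nonempty (E ≃* E') := by
  have := X.normal_diag X'
  let N := (X.diag X').range
  let j : Multiplicative V →* pullback π π' :=
    (ι.prod 1).codRestrict _ fun v => ((X.ker _).2 ⟨toAdd v, rfl⟩).trans (map_one π').symm
  let q := QuotientGroup.mk' N
  let p : pullback π π' ⧸ N →* G := QuotientGroup.lift N (π.comp (pbFst π π')) (by
    rintro _ ⟨v, rfl⟩; exact (X.ker _).2 ⟨toAdd v, rfl⟩)
  have hp : ∀ a, p (q a) = π a.1.1 := fun _ => rfl
  have hker : ∀ a : pullback π π', π a.1.1 = 1 → ∃ v v', a = j (ofAdd v) * X.diag X' (ofAdd v') := fun a ha => by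
    obtain ⟨v, hv⟩ := (X.ker _).1 ha
    obtain ⟨v', hv'⟩ := (X'.ker a.1.2).1 (a.2.symm.trans ha)
    refine ⟨v + v', v', Subtype.ext (Prod.ext ?_ ?_)⟩
    · change _ = ι (ofAdd (v + v')) * ι (ofAdd v')
      rw [ofAdd_add, map_mul, mul_assoc, ι_sq B, mul_one, hv]
    · change _ = 1 * ι' (ofAdd v')
      rw [one_mul, hv']
  have hq : ∀ v, q (X.diag X' v) = 1 := fun v => (QuotientGroup.eq_one_iff _).2 ⟨v, rfl⟩
  have Y : MExt (q.comp j) p := by
    refine ⟨fun y => ?_, (injective_iff_map_eq_one _).2 fun v hv => ?_, fun a => ?_, fun a v => ?_⟩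
    · obtain ⟨a, rfl⟩ := X.surj y
      obtain ⟨b, rfl⟩ := pbFst_surjective π X'.surj a
      exact ⟨q b, rfl⟩
    · obtain ⟨v', hv'⟩ := (QuotientGroup.eq_one_iff _).1 hv
      have a1 : ι' v' = 1 := congrArg (fun z : pullback π π' => z.1.2) hv'
      have a2 : ι v' = ι v := congrArg (fun z : pullback π π' => z.1.1) hv'
      rw [← X.inj a2]
      exact X'.inj (a1.trans (map_one ι').symm)
    · obtain ⟨a, rfl⟩ := QuotientGroup.mk'_surjective N a
      refine ⟨fun ha => ?_, ?_⟩
      · obtain ⟨v, v', rfl⟩ := hker a ha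
        exact ⟨v, by rw [map_mul, hq, mul_one]; rfl⟩
      · rintro ⟨v, hv⟩
        rw [← hv]
        exact (X.ker _).2 ⟨v, rfl⟩
    · obtain ⟨a, rfl⟩ := QuotientGroup.mk'_surjective N a
      change q a * q (j _) = q (j _) * q a
      rw [← map_mul, ← map_mul]
      exact congrArg q (Subtype.ext (Prod.ext (X.conj a.1.1 v) ((mul_one _).trans (one_mul _).symm)))
  let y : ℕ → pullback π π' := fun m => ⟨(x m, x' m), (hx m).trans (hx' m).symm⟩
  obtain ⟨H, hH⟩ := h N (q.comp j) p (fun m => q (y m)) Y hx fun r hr => by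
    have a1 : ev y (nth (0, 0) RL r).1 = j (ofAdd (vec d e u r + vec d e u' r)) *
        X.diag X' (ofAdd (vec d e u' r)) * ev y (nth (0, 0) RL r).2 := by
      refine Subtype.ext (Prod.ext ?_ ?_)
      · refine (map_ev (pbFst π π') y _).trans ((hu r hr).trans ?_)
        change _ = ι (ofAdd (vec d e u r + vec d e u' r)) * ι (ofAdd (vec d e u' r)) * pbFst π π' (ev y _)
        rw [ofAdd_add, map_mul, mul_assoc (ι _) (ι _), ι_sq B, mul_one, map_ev]
        rfl
      · refine (map_ev (pbSnd π π') y _).trans ((hu' r hr).trans ?_)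
        change _ = 1 * ι' (ofAdd (vec d e u' r)) * pbSnd π π' (ev y _)
        rw [one_mul, map_ev]
        rfl
    rw [← map_ev, ← map_ev, a1, map_mul, map_mul, hq, mul_one, ← val_unitS B.h2 hr, ← val_unitS B.h2 hr,
      ← val_unitS B.h2 hr, val_bxor B.h2]
    rfl
  have h1 : ∀ v, X.diag X' v ∈ H.comap q := fun v => by
    change q _ ∈ H
    rw [hq]; exact H.one_mem
  have h2 : ∀ a ∈ H.comap q, π a.1.1 = 1 → ∃ v, X.diag X' v = a := fun a ha h =>
    (QuotientGroup.eq_one_iff _).1 (Subgroup.disjoint_def.1 hH.disjoint (x := q a) h ha)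
  have h3 : ∀ a : pullback π π', ∃ b ∈ H.comap q, π b.1.1 = π a.1.1 := fun a => by
    obtain ⟨⟨k, b⟩, hb⟩ := (hH.existsUnique (q a)).exists
    obtain ⟨c, hc⟩ := QuotientGroup.mk'_surjective N b.1
    refine ⟨c, by change q c ∈ H; rw [hc]; exact b.2, ?_⟩
    rw [← hp, ← hp, ← hb, map_mul, (k.2 : p k.1 = 1), one_mul]
    exact congrArg p hc
  have b1 := bij_of_compl X (pbFst_surjective π X'.surj) (δ := X.diag X') (fun _ => rfl) h1 (fun a ha h => by
    obtain ⟨v, rfl⟩ := h2 a ha (by rw [show a.1.1 = 1 from h, map_one])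
    rw [X.inj (h.trans (map_one ι).symm), map_one]) h3
  have b2 := bij_of_compl X' (pbSnd_surjective X.surj π') (δ := X.diag X') (fun _ => rfl) h1 (fun a ha h => by
    obtain ⟨v, rfl⟩ := h2 a ha (by rw [show π a.1.1 = π' a.1.2 from a.2, show a.1.2 = 1 from h, map_one])
    rw [X'.inj (h.trans (map_one ι').symm), map_one]) fun a => by
      obtain ⟨b, hb, h⟩ := h3 a
      exact ⟨b, hb, b.2.symm.trans (h.trans a.2)⟩
  exact ⟨(MulEquiv.ofBijective _ b1).symm.trans (MulEquiv.ofBijective _ b2)⟩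

end baer

end CfsgLib.MultC.ModExt
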