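import Mathlib
import Cfsg.Agent.Lib.MultC.ModExt
import Cfsg.Agent.Lib.MultC.Cover

/-!
Construction of an extension of `G` by a submodule `V` of `Q` inside the semidirect product `Q ⋊ G`.
-/

set_option autoImplicit false

namespace CfsgLib.MultC.ModExt

open CfsgLib.Comput CfsgLib.MultC Multiplicative SemidirectProduct

variable (G : Type) (Q : Type) [Group G] [AddCommGroup Q] [DistribMulAction G Q]

/-- the action as automorphisms of the multiplicative group -/
def autQ : G →* MulAut (Multiplicative Q) :=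
  (MulAutMultiplicative Q).symm.toMonoidHom.comp (DistribMulAction.toAddAut G Q)

/-- the semidirect product -/
abbrev SD : Type := Multiplicative Q ⋊[autQ G Q] G

variable {G Q}

theorem SD.conj (a : SD G Q) (q : Q) : a * inl (ofAdd q) = inl (ofAdd (a.right • q)) * a := by
  refine SemidirectProduct.ext ?_ ?_
  · rw [mul_left, mul_left, left_inl, left_inl, right_inl, map_one, MulAut.one_apply]
    exact mul_comm a.left (ofAdd (a.right • q))
  · simp

instance [Finite G] [Finite Q] : Finite (SD G Q) :=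
  Finite.of_injective (fun a : SD G Q => (a.left, a.right)) fun _ _ h =>
    SemidirectProduct.ext (congrArg Prod.fst h) (congrArg Prod.snd h)

variable {V : Type} [AddCommGroup V] [DistribMulAction G V]

/-- the copy of `V` -/
def inV (G : Type) [Group G] [DistribMulAction G Q] (Θ : V →+ Q) : Multiplicative V →* SD G Q :=
  inl.comp (AddMonoidHom.toMultiplicative Θ)

theorem inV_conj {Θ : V →+ Q} (hΘ : ∀ (a : G) v, Θ (a • v) = a • Θ v) (a : SD G Q) (v : V) :
    a * inV G Θ (ofAdd v) = inV G Θ (ofAdd (a.right • v)) * a := by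
  change a * inl (ofAdd (Θ v)) = inl (ofAdd (Θ (a.right • v))) * a
  rw [hΘ, SD.conj]

theorem normal_inV {Θ : V →+ Q} (hΘ : ∀ (a : G) v, Θ (a • v) = a • Θ v) : (inV G Θ).range.Normal := ⟨by
  rintro _ ⟨v, rfl⟩ a
  exact ⟨ofAdd (a.right • toAdd v), eq_mul_inv_of_mul_eq (inV_conj hΘ a (toAdd v)).symm⟩⟩

/-- the value of words in the letters `(dec (S m), g m)` -/
theorem evL_SD {g : ℕ → G} {dec : ℕ → Q} {step : ℕ → ℕ → ℕ} (h0 : dec 0 = 0)
    (hx : ∀ a b, dec (a ^^^ b) = dec a + dec b) (hs : ∀ m x, dec (step m x) = g m • dec x) (S : ℕ → ℕ)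
    (l : List ℕ) : Comput.evL (fun m => (inl (ofAdd (dec (S m))) * inr (g m) : SD G Q)) l =
      inl (ofAdd (dec (actL (fun m T => Nat.xor (S m) (step m T)) l 0))) * inr (Comput.evL g l) := by
  have := actL_rel (g := fun m => ((inl (ofAdd (dec (S m))) * inr (g m) : SD G Q), g m))
    (step := fun m T => Nat.xor (S m) (step m T))
    (St := fun T (y : SD G Q × G) => y.1 = inl (ofAdd (dec T)) * inr y.2) (fun m T y h => by
      have h' : y.1 = inl (ofAdd (dec T)) * inr y.2 := h
      show (inl (ofAdd (dec (S m))) * inr (g m) : SD G Q) * y.1 =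
        inl (ofAdd (dec (S m ^^^ step m T))) * inr (g m * y.2)
      rw [hx, hs, h', ofAdd_add, map_mul, map_mul, mul_assoc, ← mul_assoc (inr (g m)), SD.conj, right_inr]
      simp only [mul_assoc]) l (x := 0) (a := 1) (by rw [h0]; simp)
  rw [mul_one] at this
  have a1 := map_evL (MonoidHom.fst (SD G Q) G)
    (fun m => ((inl (ofAdd (dec (S m))) * inr (g m) : SD G Q), g m)) l
  have a2 := map_evL (MonoidHom.snd (SD G Q) G)
    (fun m => ((inl (ofAdd (dec (S m))) * inr (g m) : SD G Q), g m)) l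
  simp only [MonoidHom.coe_fst, MonoidHom.coe_snd] at a1 a2
  rw [← a1, ← a2]
  exact this

/-- a homomorphism into the quotient defines an extension -/
theorem exists_ext {Θ : V →+ Q} (hi : Function.Injective Θ) (hΘ : ∀ (a : G) v, Θ (a • v) = a • Θ v)
    [(inV G Θ).range.Normal] {g : ℕ → G} {top : List ℕ} (h1 : cl g top = ⊤) {y : ℕ → SD G Q}
    (hy : ∀ m, (y m).right = g m) (ρ : G →* SD G Q ⧸ (inV G Θ).range)
    (hρ : ∀ m, ρ (g m) = QuotientGroup.mk' _ (y m)) :
    ∃ (E : Subgroup (SD G Q)) (ι : Multiplicative V →* E) (π : E →* G) (x : ℕ → E), MExt ι π ∧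
      (∀ m, π (x m) = g m) ∧ (∀ m, (x m).1 = y m) ∧ ∀ v, (ι v).1 = inV G Θ v := by
  let q := QuotientGroup.mk' (inV G Θ).range
  let p : SD G Q ⧸ (inV G Θ).range →* G := QuotientGroup.lift _ rightHom (by rintro _ ⟨v, rfl⟩; rfl)
  have hp : ∀ a, p (ρ a) = a := fun a => by
    have : cl g top ≤ (p.comp ρ).eqLocus (MonoidHom.id G) := cl_le.2 fun w _ =>
      ev_mem_of_all (fun m => (congrArg p (hρ m)).trans (hy m)) w
    exact this (h1 ▸ Subgroup.mem_top a)
  have hq : ∀ v, q (inV G Θ v) = 1 := fun v => (QuotientGroup.eq_one_iff _).2 ⟨v, rfl⟩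
  refine ⟨ρ.range.comap q, (inV G Θ).codRestrict _ fun v => ⟨1, (map_one ρ).trans (hq v).symm⟩,
    rightHom.comp (Subgroup.subtype _), fun m => ⟨y m, g m, hρ m⟩,
    ⟨fun a => ?_, fun a b h => ?_, fun a => ⟨fun h => ?_, ?_⟩, fun a v => Subtype.ext (inV_conj hΘ _ _)⟩,
    hy, fun _ => rfl, fun _ => rfl⟩
  · obtain ⟨b, hb⟩ := QuotientGroup.mk'_surjective _ (ρ a)
    exact ⟨⟨b, a, hb.symm⟩, (congrArg p hb).trans (hp a)⟩
  · exact hi (congrArg (fun z : SD G Q => toAdd z.left) (congrArg Subtype.val h))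
  · obtain ⟨b, hb⟩ := a.2
    have h2 : b = 1 := (hp b).symm.trans ((congrArg p hb).trans h)
    rw [h2, map_one] at hb
    obtain ⟨v, hv⟩ := (QuotientGroup.eq_one_iff _).1 hb.symm
    exact ⟨toAdd v, Subtype.ext hv⟩
  · rintro ⟨v, rfl⟩
    rfl

end CfsgLib.MultC.ModExt
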